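import Mathlib.Algebra.Lie.Basis.Basic
import Mathlib.Algebra.Lie.CartanCriterion
import Mathlib.Algebra.Lie.Weights.Killing
import Mathlib.LinearAlgebra.Multilinear.Basic
import Mathlib.Data.List.Perm.Basic
import Mathlib.FieldTheory.IsAlgClosed.Basic

/-!
# Borel stable subspaces of the adjoint representation of a simple Lie algebra

Everything is derived from the fact that a weight vector killed by all `e i` generates a simple Lie algebra
under the `f i`.
-/

set_option autoImplicit false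
universe u v w

open LieAlgebra LieModule

namespace Groth.Agent.BorelAdj1

variable {ι : Type u} {K : Type v} {L : Type w} [Fintype ι] [Field K] [CharZero K]
    [IsAlgClosed K] [LieRing L] [LieAlgebra K L] [FiniteDimensional K L] [LieAlgebra.IsSimple K L]
    {H : LieSubalgebra K L} [H.IsCartanSubalgebra] (b : LieAlgebra.Basis ι H)

/-- Iterated bracketing with the lowering generators. -/
def F (v : L) (l : List ι) : L := l.foldr (fun i x => ⁅b.f i, x⁆) v

/-- The sum of the simple roots of a list. -/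
noncomputable def s (l : List ι) : Module.Dual K H := (l.map b.baseSupp).sum

theorem F_cons (v : L) (i : ι) (l : List ι) : F b v (i :: l) = ⁅b.f i, F b v l⁆ := rfl

theorem s_cons (i : ι) (l : List ι) : s b (i :: l) = b.baseSupp i + s b l := rfl

theorem e_mem (i : ι) : b.e i ∈ rootSpace H (b.baseSupp i) :=
  (mem_genWeightSpace _ _ _).mpr fun x => ⟨1, by simp⟩

theorem f_mem (i : ι) : b.f i ∈ rootSpace H (-b.baseSupp i : Module.Dual K H) := by
  refine (mem_genWeightSpace _ _ _).mpr fun x => ⟨1, ?_⟩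
  simp [← eq_neg_iff_add_eq_zero]

theorem lie_mem {α β : Module.Dual K H} {x y : L} (hx : x ∈ rootSpace H α) (hy : y ∈ rootSpace H β) :
    ⁅x, y⁆ ∈ rootSpace H (α + β : Module.Dual K H) :=
  lie_mem_genWeightSpace_of_mem_genWeightSpace hx hy

theorem lie_h {χ : Module.Dual K H} {y : L} (hy : y ∈ rootSpace H χ) (h : H) :
    ⁅(h : L), y⁆ = χ h • y :=
  IsKilling.lie_eq_smul_of_mem_rootSpace hy h

theorem F_mem {χ : Module.Dual K H} {v : L} (hv : v ∈ rootSpace H χ) (l : List ι) :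
    F b v l ∈ rootSpace H (χ - s b l : Module.Dual K H) := by
  induction l with
  | nil => simpa [F, s] using hv
  | cons i l ih =>
    have := lie_mem (f_mem b i) ih
    rw [F_cons, s_cons, show χ - (b.baseSupp i + s b l) = -b.baseSupp i + (χ - s b l) by abel]
    exact this

/-- A nonzero weight vector killed by all the `e i` generates under the `f i`. -/
theorem span_F_eq_top {χ : Module.Dual K H} {v : L} (hv : v ∈ rootSpace H χ) (hv0 : v ≠ 0)
    (he : ∀ i, ⁅b.e i, v⁆ = 0) : Submodule.span K (Set.range (F b v)) = ⊤ := by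
  classical
  set M := Submodule.span K (Set.range (F b v))
  have hgen : ∀ (x : L), (∀ l, ⁅x, F b v l⁆ ∈ M) → ∀ m ∈ M, ⁅x, m⁆ ∈ M := by
    intro x hx m hm
    induction hm using Submodule.span_induction with
    | mem y hy => obtain ⟨l, rfl⟩ := hy; exact hx l
    | zero => simp
    | add a c _ _ ha hc => rw [lie_add]; exact M.add_mem ha hc
    | smul t a _ ha => rw [lie_smul]; exact M.smul_mem t ha
  have hf : ∀ i, ∀ m ∈ M, ⁅b.f i, m⁆ ∈ M := fun i =>
    hgen _ fun l => Submodule.subset_span ⟨i :: l, rfl⟩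
  have hE : ∀ i, ∀ m ∈ M, ⁅b.e i, m⁆ ∈ M := by
    intro i
    refine hgen _ fun l => ?_
    induction l with
    | nil => show ⁅b.e i, v⁆ ∈ M; rw [he]; exact M.zero_mem
    | cons k l ih =>
      rw [F_cons, leibniz_lie]
      refine M.add_mem ?_ (hf k _ ih)
      by_cases hik : i = k
      · subst hik
        rw [(b.sl2 i).lie_e_f]
        show ⁅((b.h' i : H) : L), F b v l⁆ ∈ M
        rw [lie_h (F_mem b hv l)]
        exact M.smul_mem _ (Submodule.subset_span ⟨l, rfl⟩)
      · rw [b.lie_e_f_ne i k hik, zero_lie]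
        exact M.zero_mem
  have hall : ∀ x : L, ∀ m ∈ M, ⁅x, m⁆ ∈ M := by
    intro x
    have hx : x ∈ LieSubalgebra.lieSpan K L (Set.range b.e ∪ Set.range b.f) := by rw [b.span_ef]; trivial
    induction hx using LieSubalgebra.lieSpan_induction with
    | mem y hy =>
      rcases hy with ⟨i, rfl⟩ | ⟨i, rfl⟩
      · exact hE i
      · exact hf i
    | zero => simp
    | add a c _ _ ha hc => intro m hm; rw [add_lie]; exact M.add_mem (ha m hm) (hc m hm)
    | smul t a _ ha => intro m hm; rw [smul_lie]; exact M.smul_mem t (ha m hm)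
    | lie a c _ _ ha hc =>
      intro m hm; rw [lie_lie]; exact M.sub_mem (ha _ (hc m hm)) (hc _ (ha m hm))
  let I : LieIdeal K L := { M with lie_mem := fun {x m} hm => hall x m hm }
  rcases LieAlgebra.IsSimple.eq_bot_or_eq_top (R := K) (L := L) I with h | h
  · exfalso
    apply hv0
    have : v ∈ I := Submodule.subset_span (s := Set.range (F b v)) ⟨[], rfl⟩
    rw [h] at this
    exact (LieSubmodule.mem_bot v).1 this
  · ext x
    exact ⟨fun _ => trivial, fun _ => (show x ∈ I by rw [h]; trivial)⟩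

/-- The weight spaces are spanned by monomials. -/
theorem rootSpace_le_span {χ : Module.Dual K H} {v : L} (hv : v ∈ rootSpace H χ) (hv0 : v ≠ 0)
    (he : ∀ i, ⁅b.e i, v⁆ = 0) (ψ : Module.Dual K H) :
    (rootSpace H ψ : Submodule K L) ≤ Submodule.span K (F b v '' {l | χ - s b l = ψ}) := by
  classical
  let S : Module.Dual K H → Submodule K L := fun ψ => Submodule.span K (F b v '' {l | χ - s b l = ψ})
  have hle : S ≤ fun ψ : Module.Dual K H => (rootSpace H (ψ : H → K) : Submodule K L) := by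
    intro ψ
    refine Submodule.span_le.2 ?_
    rintro _ ⟨l, rfl, rfl⟩
    exact F_mem b hv l
  have htop : iSup S = ⊤ := by
    rw [eq_top_iff, ← span_F_eq_top b hv hv0 he, Submodule.span_le]
    rintro _ ⟨l, rfl⟩
    exact Submodule.mem_iSup_of_mem (χ - s b l) (Submodule.subset_span ⟨l, rfl, rfl⟩)
  have hind : iSupIndep fun ψ : Module.Dual K H => (rootSpace H ψ : Submodule K L) := by
    have h1 := (LieSubmodule.iSupIndep_toSubmodule.2 (LieModule.iSupIndep_genWeightSpace K H L)).comp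
      (f := fun ψ : Module.Dual K H => (ψ : H → K)) DFunLike.coe_injective
    exact h1
  exact le_of_eq (congr_fun ((hind.le_iff_eq_of_iSup_eq_top htop).1 hle) ψ).symm

theorem exists_list {χ : Module.Dual K H} {v : L} (hv : v ∈ rootSpace H χ) (hv0 : v ≠ 0)
    (he : ∀ i, ⁅b.e i, v⁆ = 0) {ψ : Module.Dual K H} {y : L} (hy : y ∈ rootSpace H ψ) (hy0 : y ≠ 0) :
    ∃ l, χ - s b l = ψ := by
  by_contra hno
  push Not at hno
  have := rootSpace_le_span b hv hv0 he ψ hy
  rw [show {l : List ι | χ - s b l = ψ} = ∅ from Set.eq_empty_of_forall_notMem fun l hl => hno l hl,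
    Set.image_empty, Submodule.span_empty] at this
  exact hy0 this

theorem s_eq_sum (l : List ι) [DecidableEq ι] : s b l = ∑ i, (l.count i : K) • b.baseSupp i := by
  induction l with
  | nil => simp [s]
  | cons k l ih =>
    rw [s_cons, ih]
    simp only [List.count_cons, Nat.cast_add, add_smul, Finset.sum_add_distrib]
    rw [add_comm]
    congr 1
    rw [Finset.sum_eq_single k (fun x _ hx => by simp [Ne.symm hx]) (by simp)]
    simp

theorem perm_of_s_eq {l l' : List ι} (h : s b l = s b l') : l.Perm l' := by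
  classical
  rw [List.perm_iff_count]
  intro i
  rw [s_eq_sum, s_eq_sum, ← sub_eq_zero, ← Finset.sum_sub_distrib] at h
  replace h : ∑ x, ((l.count x : K) - (l'.count x : K)) • b.baseSupp x = 0 := (Finset.sum_congr rfl fun x _ => sub_smul _ _ _).trans h
  have := Fintype.linearIndependent_iff.1 b.linearIndependent_baseSupp _ h i
  exact_mod_cast sub_eq_zero.1 this

/-! ### Highest weight vector -/

variable {ρ : Module.Dual K H}

theorem e_kills (htop : ∀ i, rootSpace H (ρ + b.baseSupp i : Module.Dual K H) = ⊥) {v : L}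
    (hv : v ∈ rootSpace H ρ) (i : ι) : ⁅b.e i, v⁆ = 0 := by
  have h := lie_mem (e_mem b i) hv
  rw [add_comm, htop i] at h
  exact (LieSubmodule.mem_bot _).1 h

theorem exists_smul {v : L} (hv : v ∈ rootSpace H ρ) (hv0 : v ≠ 0) (he : ∀ i, ⁅b.e i, v⁆ = 0) {y : L}
    (hy : y ∈ rootSpace H ρ) : ∃ c : K, y = c • v := by
  have h := rootSpace_le_span b hv hv0 he ρ hy
  have hsub : F b v '' {l | ρ - s b l = ρ} ⊆ {v} := by
    rintro _ ⟨l, hl, rfl⟩
    have : s b l = s b [] := by
      have : s b l = 0 := sub_eq_self.1 hl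
      simpa [s] using this
    rw [List.perm_nil.1 (perm_of_s_eq b this)]
    rfl
  obtain ⟨c, hc⟩ := Submodule.mem_span_singleton.1 (Submodule.span_mono hsub h)
  exact ⟨c, hc.symm⟩

/-- A weight vector killed by all `e i` has the highest weight. -/
theorem eq_of_killed {v : L} (hv : v ∈ rootSpace H ρ) (hv0 : v ≠ 0) (he : ∀ i, ⁅b.e i, v⁆ = 0)
    {χ : Module.Dual K H} {y : L} (hy : y ∈ rootSpace H χ) (hy0 : y ≠ 0) (hey : ∀ i, ⁅b.e i, y⁆ = 0) :
    χ = ρ := by
  obtain ⟨l, hl⟩ := exists_list b hv hv0 he hy hy0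
  obtain ⟨m, hm⟩ := exists_list b hy hy0 hey hv hv0
  have h : s b (l ++ m) = s b [] := by
    have h' : s b (l ++ m) = s b l + s b m := by simp [s]
    have h0 : s b ([] : List ι) = 0 := by simp [s]
    rw [h', h0]
    linear_combination (norm := module) -hm - hl
  have := List.append_eq_nil_iff.1 (List.perm_nil.1 (perm_of_s_eq b h))
  rw [this.1] at hl
  simpa [s] using hl.symm

theorem f_kill {v : L} (hv : v ∈ rootSpace H ρ) (hv0 : v ≠ 0) (he : ∀ i, ⁅b.e i, v⁆ = 0) {i : ι}
    (hi : ρ (b.h' i) = 0) : ⁅b.f i, v⁆ = 0 := by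
  by_contra hne
  have hmem : ⁅b.f i, v⁆ ∈ rootSpace H (-b.baseSupp i + ρ : Module.Dual K H) := lie_mem (f_mem b i) hv
  have := eq_of_killed b hv hv0 he hmem hne fun k => by
    rw [leibniz_lie, he, lie_zero, add_zero]
    by_cases hki : k = i
    · subst hki
      rw [(b.sl2 k).lie_e_f]
      show ⁅((b.h' k : H) : L), v⁆ = 0
      rw [lie_h hv, hi, zero_smul]
    · rw [b.lie_e_f_ne k i hki, zero_lie]
  have h2 : b.baseSupp i = 0 := neg_eq_zero.1 (add_eq_right.1 this)
  exact b.linearIndependent_baseSupp.ne_zero i h2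

theorem lie_f_comm {i j : ι} (hA : b.A i j = 0) : ⁅b.f j, b.f i⁆ = 0 := by
  have hij : i ≠ j := by
    rintro rfl
    haveI : IsAddTorsionFree L := .of_isTorsionFree K L
    simp at hA
  have P : IsSl2Triple.HasPrimitiveVectorWith (b.sl2 j) (b.f i) (0 : K) :=
    { ne_zero := (b.sl2 i).f_ne_zero
      lie_h := by rw [b.lie_h_f, hA]; simp
      lie_e := b.lie_e_f_ne j i hij.symm }
  simpa using P.pow_toEnd_f_eq_zero_of_eq_nat (n := 0) (by simp)

/-! ### Stable subspaces -/

/-- A subspace stable under the Cartan subalgebra and the raising generators which is not contained in another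
one contains a weight vector outside of it whose raisings are all inside. -/
theorem exists_layer {v : L} (hv : v ∈ rootSpace H ρ) (hv0 : v ≠ 0) (he : ∀ i, ⁅b.e i, v⁆ = 0)
    {W U : Submodule K L} (hH : ∀ x ∈ H, ∀ w ∈ W, ⁅x, w⁆ ∈ W) (hE : ∀ i, ∀ w ∈ W, ⁅b.e i, w⁆ ∈ W)
    (hWU : ¬ W ≤ U) :
    ∃ (χ : Module.Dual K H) (y : L), y ∈ rootSpace H χ ∧ y ∈ W ∧ y ∉ U ∧ ∀ i, ⁅b.e i, y⁆ ∈ U := by
  classical
  let W' : LieSubmodule K H L := { W with lie_mem := fun {x m} hm => hH x x.2 m hm }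
  obtain ⟨φ, y, hyφ, hyW, hyU⟩ : ∃ (φ : H → K) (y : L), y ∈ rootSpace H φ ∧ y ∈ W ∧ y ∉ U := by
    by_contra hno
    push Not at hno
    apply hWU
    intro w hw
    have h1 : (⟨w, hw⟩ : W') ∈ ⨆ χ : H → K, genWeightSpace W' χ := by
      rw [iSup_genWeightSpace_eq_top K H W']; trivial
    refine LieSubmodule.iSup_induction (motive := fun z : W' => (z : L) ∈ U) _ h1 (fun φ z hz => ?_) ?_ ?_
    · exact hno φ z (map_genWeightSpace_le (f := W'.incl) ⟨z, hz, rfl⟩) z.2
    · exact U.zero_mem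
    · intro a c ha hc; exact U.add_mem ha hc
  have hy0 : y ≠ 0 := fun h => hyU (h ▸ U.zero_mem)
  have hlin : ∃ χ : Module.Dual K H, (χ : H → K) = φ := by
    have hne : rootSpace H φ ≠ ⊥ := fun h => hy0 ((LieSubmodule.mem_bot y).1 (h ▸ hyφ))
    exact ⟨Weight.toLinear K H L ⟨φ, hne⟩, rfl⟩
  obtain ⟨χ, rfl⟩ := hlin
  obtain ⟨l, hl⟩ := exists_list b hv hv0 he hyφ hy0
  have key : ∀ (n : ℕ) (l : List ι) (χ : Module.Dual K H) (y : L), l.length = n → ρ - s b l = χ →
      y ∈ rootSpace H χ → y ∈ W → y ∉ U →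
      ∃ (χ : Module.Dual K H) (y : L), y ∈ rootSpace H χ ∧ y ∈ W ∧ y ∉ U ∧ ∀ i, ⁅b.e i, y⁆ ∈ U := by
    intro n
    induction n using Nat.strong_induction_on with
    | _ n ih =>
      intro l χ y hn hl hy hyW hyU
      by_cases hall : ∀ i, ⁅b.e i, y⁆ ∈ U
      · exact ⟨χ, y, hy, hyW, hyU, hall⟩
      push Not at hall
      obtain ⟨i, hi⟩ := hall
      have hz := lie_mem (e_mem b i) hy
      obtain ⟨l', hl'⟩ := exists_list b hv hv0 he hz (fun h0 => hi (h0 ▸ U.zero_mem))
      have hperm : l.Perm (i :: l') := perm_of_s_eq b (by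
        rw [s_cons]
        linear_combination (norm := module) hl' - hl)
      have := hperm.length_eq
      rw [List.length_cons] at this
      exact ih l'.length (by omega) l' _ _ rfl hl' hz (hE i y hyW) hi
  exact key _ l χ y rfl hl hyφ hyW hyU

variable (j : ι)

theorem rootSpace_sub_le {v : L} (hv : v ∈ rootSpace H ρ) (hv0 : v ≠ 0) (he : ∀ i, ⁅b.e i, v⁆ = 0) (i : ι) :
    (rootSpace H (ρ - b.baseSupp i : Module.Dual K H) : Submodule K L) ≤ Submodule.span K {⁅b.f i, v⁆} := by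
  refine (rootSpace_le_span b hv hv0 he _).trans (Submodule.span_mono ?_)
  rintro _ ⟨l, hl, rfl⟩
  have : s b l = s b [i] := by simpa [s] using sub_right_injective hl
  rw [List.perm_singleton.1 (perm_of_s_eq b this)]
  rfl

theorem stable_of_gens {W : Submodule K L} (hH : ∀ x ∈ H, ∀ w ∈ W, ⁅x, w⁆ ∈ W)
    (hE : ∀ i, ∀ w ∈ W, ⁅b.e i, w⁆ ∈ W) :
    ∀ x ∈ H.toSubmodule ⊔ (b.borelUpper : Submodule K L), ∀ w ∈ W, ⁅x, w⁆ ∈ W := by
  intro x hx w hw
  obtain ⟨a, ha, c, hc, rfl⟩ := Submodule.mem_sup.1 hx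
  rw [add_lie]
  refine W.add_mem (hH a ha w hw) ?_
  have hc' : c ∈ LieSubalgebra.lieSpan K L (Set.range b.e) := hc
  clear hx hc
  induction hc' using LieSubalgebra.lieSpan_induction generalizing w with
  | mem y hy => obtain ⟨i, rfl⟩ := hy; exact hE i w hw
  | zero => simp
  | add p q _ _ hp hq => rw [add_lie]; exact W.add_mem (hp w hw) (hq w hw)
  | smul t p _ hp => rw [smul_lie]; exact W.smul_mem t (hp w hw)
  | lie p q _ _ hp hq => rw [lie_lie]; exact W.sub_mem (hp _ (hq w hw)) (hq _ (hp w hw))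

theorem gens_of_stable {W : Submodule K L}
    (hst : ∀ x ∈ H.toSubmodule ⊔ (b.borelUpper : Submodule K L), ∀ w ∈ W, ⁅x, w⁆ ∈ W) :
    (∀ x ∈ H, ∀ w ∈ W, ⁅x, w⁆ ∈ W) ∧ ∀ i, ∀ w ∈ W, ⁅b.e i, w⁆ ∈ W :=
  ⟨fun x hx => hst x (Submodule.mem_sup_left hx),
    fun i => hst _ (Submodule.mem_sup_right (LieSubalgebra.subset_lieSpan (Set.mem_range_self i)))⟩

/-- Structure of the top of the adjoint representation. -/
theorem top_facts (hρ : rootSpace H ρ ≠ ⊥) (htop : ∀ i, rootSpace H (ρ + b.baseSupp i : Module.Dual K H) = ⊥)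
    (hN : ∀ i, ρ (b.h' i) ≠ 0 ↔ i = j) (hj : ρ (b.h' j) = 1) :
    ∃ v : L, v ≠ 0 ∧ v ∈ rootSpace H ρ ∧ (∀ i, ⁅b.e i, v⁆ = 0) ∧ (∀ i, i ≠ j → ⁅b.f i, v⁆ = 0) ∧
      ⁅b.e j, ⁅b.f j, v⁆⁆ = v ∧ ⁅b.f j, v⁆ ∈ rootSpace H (ρ - b.baseSupp j : Module.Dual K H) ∧
      (rootSpace H ρ : Submodule K L) = Submodule.span K {v} ∧
      (rootSpace H (ρ - b.baseSupp j : Module.Dual K H) : Submodule K L) = Submodule.span K {⁅b.f j, v⁆} := by
  obtain ⟨v, hv, hv0⟩ : ∃ v ∈ rootSpace H ρ, v ≠ 0 := by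
    by_contra hno
    push Not at hno
    exact hρ ((LieSubmodule.eq_bot_iff _).2 hno)
  have he := e_kills b htop hv
  have hfj : ⁅b.f j, v⁆ ∈ rootSpace H (ρ - b.baseSupp j : Module.Dual K H) := by
    rw [sub_eq_neg_add]; exact lie_mem (f_mem b j) hv
  refine ⟨v, hv0, hv, he, fun i hi => f_kill b hv hv0 he (by_contra fun h => hi ((hN i).1 h)), ?_, hfj, ?_, ?_⟩
  · rw [leibniz_lie, he j, lie_zero, add_zero, (b.sl2 j).lie_e_f]
    show ⁅((b.h' j : H) : L), v⁆ = v
    rw [lie_h hv, hj, one_smul]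
  · refine le_antisymm (fun y hy => ?_) ((Submodule.span_singleton_le_iff_mem _ _).2 hv)
    obtain ⟨c, rfl⟩ := exists_smul b hv hv0 he hy
    exact Submodule.smul_mem _ _ (Submodule.mem_span_singleton_self v)
  · exact le_antisymm (rootSpace_sub_le b hv hv0 he j) ((Submodule.span_singleton_le_iff_mem _ _).2 hfj)

/-- The first two layers. -/
theorem layers {v : L} (hv : v ∈ rootSpace H ρ) (hv0 : v ≠ 0) (he : ∀ i, ⁅b.e i, v⁆ = 0)
    (hf : ∀ i, i ≠ j → ⁅b.f i, v⁆ = 0)
    {W : Submodule K L} (hH : ∀ x ∈ H, ∀ w ∈ W, ⁅x, w⁆ ∈ W) (hE : ∀ i, ∀ w ∈ W, ⁅b.e i, w⁆ ∈ W) :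
    (W ≠ ⊥ → v ∈ W) ∧ (W ≠ ⊥ → ¬ W ≤ Submodule.span K {v} → ⁅b.f j, v⁆ ∈ W) := by
  have h1 : W ≠ ⊥ → v ∈ W := by
    intro hW
    obtain ⟨χ, y, hy, hyW, hyU, hey⟩ := exists_layer b hv hv0 he hH hE (U := ⊥) (fun h => hW (le_bot_iff.1 h))
    have hy0 : y ≠ 0 := fun h => hyU (h ▸ Submodule.zero_mem _)
    have hey' : ∀ i, ⁅b.e i, y⁆ = 0 := fun i => (Submodule.mem_bot K).1 (hey i)
    obtain rfl := eq_of_killed b hv hv0 he hy hy0 hey'
    obtain ⟨c, rfl⟩ := exists_smul b hv hv0 he hy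
    exact (Submodule.smul_mem_iff W (fun h => hy0 (by rw [h, zero_smul]))).1 hyW
  refine ⟨h1, fun hW hnle => ?_⟩
  obtain ⟨χ, y, hy, hyW, hyU, hey⟩ := exists_layer b hv hv0 he hH hE hnle
  have hy0 : y ≠ 0 := fun h => hyU (h ▸ Submodule.zero_mem _)
  obtain ⟨i, hi⟩ : ∃ i, ⁅b.e i, y⁆ ≠ 0 := by
    by_contra hno
    push Not at hno
    obtain rfl := eq_of_killed b hv hv0 he hy hy0 hno
    obtain ⟨c, rfl⟩ := exists_smul b hv hv0 he hy
    exact hyU (Submodule.smul_mem _ _ (Submodule.mem_span_singleton_self v))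
  obtain ⟨c, hc⟩ := Submodule.mem_span_singleton.1 (hey i)
  have hz := lie_mem (e_mem b i) hy
  have hχ : χ = ρ - b.baseSupp i := by
    obtain ⟨l, hl⟩ := exists_list b hv hv0 he hz hi
    have hcv : ⁅b.e i, y⁆ ∈ rootSpace H ρ := hc ▸ (rootSpace H ρ).smul_mem c hv
    have hperm : s b l = s b [] := by
      by_contra hne
      have hne' : (b.baseSupp i + χ : Module.Dual K H) ≠ ρ := by
        intro h
        apply hne
        rw [← hl] at h
        simpa [s] using (sub_eq_self.1 h)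
      have hd := (LieSubmodule.disjoint_toSubmodule.2 (LieModule.disjoint_genWeightSpace K H L
        (fun h => hne' (DFunLike.coe_injective h)))).le_bot ⟨hz, hcv⟩
      exact hi hd
    rw [List.perm_nil.1 (perm_of_s_eq b hperm)] at hl
    simp only [s, List.map_nil, List.sum_nil, sub_zero] at hl
    rw [hl]; abel
  subst hχ
  have hyspan := rootSpace_sub_le b hv hv0 he i hy
  obtain ⟨d, rfl⟩ := Submodule.mem_span_singleton.1 hyspan
  have hd : d ≠ 0 := fun h => hy0 (by rw [h, zero_smul])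
  have hij : i = j := by_contra fun h => hy0 (by rw [hf i h, smul_zero])
  subst hij
  exact (Submodule.smul_mem_iff W hd).1 hyW

theorem e_fj {v : L} (he : ∀ i, ⁅b.e i, v⁆ = 0) {k : ι} (hk : k ≠ j) : ⁅b.e k, ⁅b.f j, v⁆⁆ = 0 := by
  rw [leibniz_lie, he k, lie_zero, add_zero, b.lie_e_f_ne k j hk, zero_lie]

theorem linearIndependent_pair {v : L} (hv : v ∈ rootSpace H ρ) (hv0 : v ≠ 0)
    (hej : ⁅b.e j, ⁅b.f j, v⁆⁆ = v) (he : ∀ i, ⁅b.e i, v⁆ = 0) (c : K) (h : ⁅b.f j, v⁆ = c • v) : False := by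
  apply hv0
  rw [← hej, h, lie_smul, he, smul_zero]

theorem twoDim (hρ : rootSpace H ρ ≠ ⊥) (htop : ∀ i, rootSpace H (ρ + b.baseSupp i : Module.Dual K H) = ⊥)
    (hN : ∀ i, ρ (b.h' i) ≠ 0 ↔ i = j) (hj : ρ (b.h' j) = 1) (W : Submodule K L) :
    (Module.finrank K W = 2 ∧
        ∀ x ∈ H.toSubmodule ⊔ (b.borelUpper : Submodule K L), ∀ w ∈ W, ⁅x, w⁆ ∈ W) ↔
      W = (rootSpace H ρ : Submodule K L) ⊔ (rootSpace H (ρ - b.baseSupp j : Module.Dual K H) : Submodule K L) := by
  obtain ⟨v, hv0, hv, he, hf, hej, hw, hρe, hρje⟩ := top_facts b j hρ htop hN hj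
  rw [hρe, hρje, ← Submodule.span_insert]
  have hind : LinearIndependent K ![v, ⁅b.f j, v⁆] :=
    (LinearIndependent.pair_iff' hv0).2 fun a ha => linearIndependent_pair b j hv hv0 hej he a ha.symm
  have hrank : Module.finrank K (Submodule.span K ({v, ⁅b.f j, v⁆} : Set L)) = 2 := by
    have := finrank_span_eq_card hind
    rwa [Matrix.range_cons_cons_empty, Fintype.card_fin] at this
  constructor
  · rintro ⟨h2, hst⟩
    obtain ⟨hH, hE⟩ := gens_of_stable b hst
    have hW : W ≠ ⊥ := fun h => by rw [h, finrank_bot] at h2; omega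
    obtain ⟨hl1, hl2⟩ := layers b j hv hv0 he hf hH hE
    have hnle : ¬ W ≤ Submodule.span K {v} := fun h => by
      have := Submodule.finrank_mono h
      rw [finrank_span_singleton hv0] at this
      omega
    refine (Submodule.eq_of_le_of_finrank_eq (Submodule.span_le.2 ?_) (by rw [hrank, h2])).symm
    exact Set.pair_subset (hl1 hW) (hl2 hW hnle)
  · rintro rfl
    refine ⟨hrank, stable_of_gens b ?_ ?_⟩
    · intro x hx w hw'
      obtain ⟨a, c, rfl⟩ := Submodule.mem_span_pair.1 hw'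
      rw [lie_add, lie_smul, lie_smul, lie_h hv ⟨x, hx⟩, lie_h hw ⟨x, hx⟩, smul_smul, smul_smul]
      exact Submodule.mem_span_pair.2 ⟨_, _, rfl⟩
    · intro k w hw'
      obtain ⟨a, c, rfl⟩ := Submodule.mem_span_pair.1 hw'
      rw [lie_add, lie_smul, lie_smul, he, smul_zero, zero_add]
      by_cases hk : k = j
      · subst hk; rw [hej]; exact Submodule.mem_span_pair.2 ⟨c, 0, by simp⟩
      · rw [e_fj b j he hk, smul_zero]; exact Submodule.zero_mem _

/-- Three dimensional stable subspaces. -/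
theorem threeDim (hρ : rootSpace H ρ ≠ ⊥) (htop : ∀ i, rootSpace H (ρ + b.baseSupp i : Module.Dual K H) = ⊥)
    (hN : ∀ i, ρ (b.h' i) ≠ 0 ↔ i = j) (hj : ρ (b.h' j) = 1) (W : Submodule K L)
    (hW3 : Module.finrank K W = 3)
    (hst : ∀ x ∈ H.toSubmodule ⊔ (b.borelUpper : Submodule K L), ∀ w ∈ W, ⁅x, w⁆ ∈ W) :
    ∃ (i : ι) (v u : L) (d : K), i ≠ j ∧ b.A i j ≠ 0 ∧ d ≠ 0 ∧
      (rootSpace H ρ : Submodule K L) = Submodule.span K {v} ∧
      (rootSpace H (ρ - b.baseSupp j : Module.Dual K H) : Submodule K L) = Submodule.span K {⁅b.f j, v⁆} ∧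
      (rootSpace H (ρ - b.baseSupp j - b.baseSupp i : Module.Dual K H) : Submodule K L) = Submodule.span K {u} ∧
      W = Submodule.span K {v, ⁅b.f j, v⁆, u} ∧
      LinearIndependent K ![v, ⁅b.f j, v⁆, u] ∧
      ⁅b.e j, v⁆ = 0 ∧ ⁅b.e i, v⁆ = 0 ∧ ⁅b.e j, ⁅b.f j, v⁆⁆ = v ∧ ⁅b.e i, ⁅b.f j, v⁆⁆ = 0 ∧
      ⁅b.e j, u⁆ = 0 ∧ ⁅b.e i, u⁆ = d • ⁅b.f j, v⁆ := by
  obtain ⟨v, hv0, hv, he, hf, hej, hw, hρe, hρje⟩ := top_facts b j hρ htop hN hj
  obtain ⟨hH, hE⟩ := gens_of_stable b hst
  set w := ⁅b.f j, v⁆ with hwdef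
  have hWne : W ≠ ⊥ := fun h => by rw [h, finrank_bot] at hW3; omega
  obtain ⟨hl1, hl2⟩ := layers b j hv hv0 he hf hH hE
  have hvW := hl1 hWne
  have hwW : w ∈ W := hl2 hWne fun h => by
    have := Submodule.finrank_mono h
    rw [finrank_span_singleton hv0] at this
    omega
  have hU : ¬ W ≤ Submodule.span K ({v, w} : Set L) := fun h => by
    have h1 := Submodule.finrank_mono h
    have h2 : Module.finrank K (Submodule.span K ({v, w} : Set L)) ≤ 2 := by
      classical
      have := finrank_span_finset_le_card (R := K) ({v, w} : Finset L)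
      rw [Finset.coe_pair] at this
      exact this.trans Finset.card_le_two
    omega
  obtain ⟨χ, y, hy, hyW, hyU, hey⟩ := exists_layer b hv hv0 he hH hE hU
  have hy0 : y ≠ 0 := fun h => hyU (h ▸ Submodule.zero_mem _)
  have hyρ : χ ≠ ρ := fun h => hyU (by
    subst h
    obtain ⟨c, rfl⟩ := exists_smul b hv hv0 he hy
    exact Submodule.smul_mem _ _ (Submodule.subset_span (Set.mem_insert _ _)))
  obtain ⟨i, hi⟩ : ∃ i, ⁅b.e i, y⁆ ≠ 0 := by
    by_contra hno
    push Not at hno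
    exact hyρ (eq_of_killed b hv hv0 he hy hy0 hno)
  have hz := lie_mem (e_mem b i) hy
  have hor : (b.baseSupp i + χ : Module.Dual K H) = ρ ∨ (b.baseSupp i + χ : Module.Dual K H) = ρ - b.baseSupp j := by
    by_contra hno
    push Not at hno
    obtain ⟨a, c, hac⟩ := Submodule.mem_span_pair.1 (hey i)
    have key := LieModule.iSupIndep_genWeightSpace K H L ((b.baseSupp i + χ : Module.Dual K H) : H → K)
    have : ⁅b.e i, y⁆ ∈ (⨆ (φ : H → K) (_ : φ ≠ ((b.baseSupp i + χ : Module.Dual K H) : H → K)), genWeightSpace L φ) := by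
      rw [← hac]
      refine add_mem ?_ ?_
      · exact LieSubmodule.mem_iSup_of_mem (ρ : H → K) (LieSubmodule.mem_iSup_of_mem
          (fun h => hno.1 (DFunLike.coe_injective h.symm)) (SMulMemClass.smul_mem a hv))
      · exact LieSubmodule.mem_iSup_of_mem ((ρ - b.baseSupp j : Module.Dual K H) : H → K) (LieSubmodule.mem_iSup_of_mem
          (fun h => hno.2 (DFunLike.coe_injective h.symm)) (SMulMemClass.smul_mem c hw))
    exact hi ((LieSubmodule.disjoint_toSubmodule.2 key).le_bot ⟨hz, this⟩)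
  have hχ : χ = ρ - b.baseSupp j - b.baseSupp i := by
    rcases hor with h | h
    · exfalso
      have hχ : χ = ρ - b.baseSupp i := by rw [← h]; abel
      subst hχ
      obtain ⟨d, rfl⟩ := Submodule.mem_span_singleton.1 (rootSpace_sub_le b hv hv0 he i hy)
      by_cases hij : i = j
      · subst hij; exact hyU (Submodule.smul_mem _ _ (Submodule.subset_span (Set.mem_insert_of_mem _ rfl)))
      · exact hy0 (by rw [hf i hij, smul_zero])
    · rw [← h]; abel
  subst hχ
  have hle : (rootSpace H (ρ - b.baseSupp j - b.baseSupp i : Module.Dual K H) : Submodule K L) ≤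
      Submodule.span K {⁅b.f i, w⁆, ⁅b.f j, ⁅b.f i, v⁆⁆} := by
    refine (rootSpace_le_span b hv hv0 he _).trans (Submodule.span_mono ?_)
    rintro _ ⟨l, hl, rfl⟩
    have : s b l = s b [i, j] := by
      have h' : ρ - s b l = ρ - b.baseSupp j - b.baseSupp i := hl
      rw [sub_sub] at h'
      simpa [s, add_comm] using sub_right_injective h'
    rcases List.perm_pair.1 (perm_of_s_eq b this) with h | h <;> subst h
    · exact Set.mem_insert _ _
    · exact Set.mem_insert_of_mem _ rfl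
  have hij : i ≠ j := by
    rintro rfl
    apply hi
    have : ⁅b.e i, ⁅b.f i, w⁆⁆ = 0 := by
      rw [leibniz_lie, hej, (b.sl2 i).lie_e_f]
      show ⁅((b.h' i : H) : L), w⁆ + w = 0
      haveI : IsAddTorsionFree L := .of_isTorsionFree K L
      rw [lie_h hw, LinearMap.sub_apply, hj, b.baseSupp_apply_h', b.A_diag_eq_two]
      module
    obtain ⟨a, c, rfl⟩ := Submodule.mem_span_pair.1 (hle hy)
    rw [hwdef] at this
    simp [lie_add, lie_smul, this, hwdef]
  have hle' : (rootSpace H (ρ - b.baseSupp j - b.baseSupp i : Module.Dual K H) : Submodule K L) ≤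
      Submodule.span K {⁅b.f i, w⁆} := by
    refine hle.trans (Submodule.span_le.2 ?_)
    rintro x (rfl | rfl)
    · exact Submodule.subset_span rfl
    · rw [hf i hij, lie_zero]; exact Submodule.zero_mem _
  obtain ⟨t, rfl⟩ := Submodule.mem_span_singleton.1 (hle' hy)
  have ht : t ≠ 0 := fun h => hy0 (by rw [h, zero_smul])
  have hei : ⁅b.e i, ⁅b.f i, w⁆⁆ = (-(b.A j i : K)) • w := by
    rw [leibniz_lie, hwdef, e_fj b j he hij, lie_zero, add_zero, ← hwdef, (b.sl2 i).lie_e_f]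
    show ⁅((b.h' i : H) : L), w⁆ = _
    rw [lie_h hw, LinearMap.sub_apply, b.baseSupp_apply_h', show ρ (b.h' i) = 0 from
      by_contra fun h => hij ((hN i).1 h), zero_sub]
  have hA : b.A i j ≠ 0 := by
    intro hA0
    apply hy0
    have h1 : ⁅b.f i, b.f j⁆ = 0 := by rw [← lie_skew, lie_f_comm b hA0, neg_zero]
    rw [hwdef, leibniz_lie, h1, zero_lie, hf i hij, lie_zero, add_zero, smul_zero]
  have hejy : ⁅b.e j, t • ⁅b.f i, w⁆⁆ = 0 := by
    rw [lie_smul, leibniz_lie, b.lie_e_f_ne j i hij.symm, zero_lie, hej, hf i hij, add_zero, smul_zero]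
  have heiy : ⁅b.e i, t • ⁅b.f i, w⁆⁆ = (t * -(b.A j i : K)) • w := by rw [lie_smul, hei, smul_smul]
  have hd : t * -(b.A j i : K) ≠ 0 := fun h => hi (by rw [heiy, h, zero_smul])
  have hind : LinearIndependent K ![v, w, t • ⁅b.f i, w⁆] := by
    rw [Fintype.linearIndependent_iff]
    intro g hg
    simp only [Fin.sum_univ_three, Matrix.cons_val_zero, Matrix.cons_val_one, Matrix.cons_val_two,
      Matrix.head_cons, Matrix.tail_cons] at hg
    have h2 := congrArg (fun x => ⁅b.e j, ⁅b.e i, x⁆⁆) hg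
    simp only [lie_add, lie_smul, he, smul_zero, zero_add, hwdef, e_fj b j he hij, lie_zero] at h2
    rw [← hwdef, hei, lie_smul, hej, smul_smul, smul_smul, smul_eq_zero] at h2
    have hg2 : g 2 = 0 := by
      have h3 := h2.resolve_right hv0
      rw [mul_assoc] at h3
      exact (mul_eq_zero.1 h3).resolve_right hd
    rw [hg2, zero_smul, add_zero] at hg
    have h1 := congrArg (fun x => ⁅b.e j, x⁆) hg
    simp only [lie_add, lie_smul, he, smul_zero, zero_add, hej, lie_zero, smul_eq_zero, hv0, or_false] at h1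
    rw [h1, zero_smul, add_zero, smul_eq_zero] at hg
    intro k
    fin_cases k
    · exact hg.resolve_right hv0
    · exact h1
    · exact hg2
  refine ⟨i, v, _, _, hij, hA, hd, hρe, hρje, ?_, ?_, hind, he j, he i, hej, e_fj b j he hij, hejy, heiy⟩
  · refine le_antisymm ?_ ((Submodule.span_singleton_le_iff_mem _ _).2 hy)
    rw [Submodule.span_singleton_smul_eq (Ne.isUnit ht)]
    exact hle'
  · refine (Submodule.eq_of_le_of_finrank_eq (Submodule.span_le.2 ?_) ?_).symm
    · rintro x (rfl | rfl | rfl)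
      · exact hvW
      · exact hwW
      · exact hyW
    · have := finrank_span_eq_card hind
      rw [show Set.range ![v, w, t • ⁅b.f i, w⁆] = {v, w, t • ⁅b.f i, w⁆} by
        ext x; simp [Matrix.range_cons, Matrix.range_empty]; tauto] at this
      rw [this, hW3]; rfl

end Groth.Agent.BorelAdj1
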